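set_option autoImplicit false
namespace Cfsg.Agent.Lib.Helper6.TCD.HePU
noncomputable def WDL0 (i : Nat) : Nat := Nat.land (Nat.shiftRight 0x141404000000414104000000040404000000404004000000030304000000303004000000020204000000202004000000007702000000006602000000005502000000004402000000003302000000002202000000001102000000000002 (Nat.mul 48 (Nat.land i 15))) 281474976710655
noncomputable def WDL1 (i : Nat) : Nat := Nat.land (Nat.shiftRight 0x13131306000031313106000004545205000005452405000004524505000005245405000002454505000004542505000005425405000004254505000002545405000005454205000000151504000000515104000000343404000000434304 (Nat.mul 48 (Nat.land i 15))) 281474976710655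
noncomputable def WDP0N0 (i : Nat) : Nat := Bool.rec (WDL0 i) (WDL1 i) (Nat.ble 16 i)
noncomputable def WDL2 (i : Nat) : Nat := Nat.land (Nat.shiftRight 0x17171706000071717106000016161606000061616106000036767206000067672306000076723606000067236706000072367606000023676706000067632706000076327606000063276706000032767606000027676306000076763206 (Nat.mul 48 (Nat.land i 15))) 281474976710655
noncomputable def WDL3 (i : Nat) : Nat := Nat.land (Nat.shiftRight 0x65747604509057476045609074760456509047604565709076045657409060456574709004565747609074756540609047565406709075654067409056540674709065406747509054067475609040674756509006747565409067475654009 (Nat.mul 48 (Nat.land i 15))) 281474976710655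
noncomputable def WDP0N1 (i : Nat) : Nat := Bool.rec (WDL2 i) (WDL3 i) (Nat.ble 48 i)
noncomputable def WDP0N2 (i : Nat) : Nat := Bool.rec (WDP0N0 i) (WDP0N1 i) (Nat.ble 32 i)
noncomputable def WDL4 (i : Nat) : Nat := Nat.land (Nat.shiftRight 0x1601014610a16010146100a60101461010a01014610160a10164101060a01641010610a16410106100a64101061010a41010610160a10106101640a01061016410a10610164100a06101641010a61016410100a045657476009056574760409 (Nat.mul 48 (Nat.land i 15))) 281474976710655
noncomputable def WDL5 (i : Nat) : Nat := Nat.land (Nat.shiftRight 0x10175101070a01751010710a17510107100a75101071010a51010710170a10107101750a01071017510a10710175100a07101751010a71017510100a10146101600a01461016010a14610160100a46101601010a61016010140a10160101460a (Nat.mul 48 (Nat.land i 15))) 281474976710655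
noncomputable def WDP0N3 (i : Nat) : Nat := Bool.rec (WDL4 i) (WDL5 i) (Nat.ble 80 i)
noncomputable def WDL6 (i : Nat) : Nat := Nat.land (Nat.shiftRight 0x10157101700a01571017010a15710170100a57101701010a71017010150a10170101570a01701015710a17010157100a70101571010a01015710170a (Nat.mul 48 (Nat.land i 15))) 281474976710655
noncomputable def WDP0N4 (i : Nat) : Nat := Bool.rec (WDP0N3 i) (WDL6 i) (Nat.ble 96 i)
noncomputable def WD (i : Nat) : Nat := Bool.rec (WDP0N2 i) (WDP0N4 i) (Nat.ble 64 i)
end Cfsg.Agent.Lib.Helper6.TCD.HePU
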