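set_option autoImplicit false
namespace Cfsg.Agent.Lib.Helper6.TCD.HePU
noncomputable def WI (i : Nat) : Nat := Nat.land (Nat.shiftRight 0x2122b0815838ac18560a2b0415818ac0856022b0015048a820540e2a0615028a81054062a0215008a8005612290814838a418520a290414818a4085202290014048a020500e280614028a0105006280214008a00052102707138309c144e082703138109c044e0026081303898184c0a26041301898084c0226001300890004802220011828841042062102108088400400a2004100188008400220001000878003e081d030e81074043a001c040e018700838021c000e0086800340218000c00858002c0214000a00848002402100008000380018000a000400018000800020000 (Nat.mul 17 (Nat.land i 255))) 131071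
end Cfsg.Agent.Lib.Helper6.TCD.HePU
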