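import Cfsg.Agent.Lib.Helper6.TCD.HePU.CS0
import Cfsg.Agent.Lib.Helper6.TCD.HePU.CS1
import Cfsg.Agent.Lib.Helper6.TCD.HePU.CS2
import Cfsg.Agent.Lib.Helper6.TCD.HePU.CS3
import Cfsg.Agent.Lib.Helper6.TCD.HePU.CS4
import Cfsg.Agent.Lib.Helper6.TCD.HePU.CS5
import Cfsg.Agent.Lib.Helper6.TCD.HePU.CS6
import Cfsg.Agent.Lib.Helper6.TCD.HePU.CS7
import Cfsg.Agent.Lib.Helper6.TCD.HePU.CS8
import Cfsg.Agent.Lib.Helper6.TCD.HePU.CS9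
import Cfsg.Agent.Lib.Helper6.TCD.HePU.CS10
import Cfsg.Agent.Lib.Helper6.TCD.HePU.CS11
import Cfsg.Agent.Lib.Helper6.TCD.HePU.CS12
import Cfsg.Agent.Lib.Helper6.TCD.HePU.CS13
import Cfsg.Agent.Lib.Helper6.TCD.HePU.CS14
import Cfsg.Agent.Lib.Helper6.TCD.HePU.CS15
import Cfsg.Agent.Lib.Helper6.TCD.HePU.CS16
import Cfsg.Agent.Lib.Helper6.TCD.HePU.CS17
import Cfsg.Agent.Lib.Helper6.TCD.HePU.CS18
import Cfsg.Agent.Lib.Helper6.TCD.HePU.CS19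
import Cfsg.Agent.Lib.Helper6.TCD.HePU.CS20
import Cfsg.Agent.Lib.Helper6.TCD.HePU.CS21
import Cfsg.Agent.Lib.Helper6.TCD.HePU.CS22
import Cfsg.Agent.Lib.Helper6.TCD.HePU.CS23
import Cfsg.Agent.Lib.Helper6.TCD.HePU.CS24
import Cfsg.Agent.Lib.Helper6.TCD.HePU.CS25
import Cfsg.Agent.Lib.Helper6.TCD.HePU.CS26
import Cfsg.Agent.Lib.Helper6.TCD.HePU.CS27
import Cfsg.Agent.Lib.Helper6.TCD.HePU.CS28
import Cfsg.Agent.Lib.Helper6.TCD.HePU.CS29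
import Cfsg.Agent.Lib.Helper6.TCD.HePU.CS30
import Cfsg.Agent.Lib.Helper6.TCD.HePU.CS31
import Cfsg.Agent.Lib.Helper6.TCD.HePU.CS32
import Cfsg.Agent.Lib.Helper6.TCD.HePU.CS33
import Cfsg.Agent.Lib.Helper6.TCD.HePU.CS34
import Cfsg.Agent.Lib.Helper6.TCD.HePU.CS35
import Cfsg.Agent.Lib.Helper6.TCD.HePU.CS36
import Cfsg.Agent.Lib.Helper6.TCD.HePU.CS37
import Cfsg.Agent.Lib.Helper6.TCD.HePU.CS38
import Cfsg.Agent.Lib.Helper6.TCD.HePU.CS39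
import Cfsg.Agent.Lib.Helper6.TCD.HePU.CS40
import Cfsg.Agent.Lib.Helper6.TCD.HePU.CS41
import Cfsg.Agent.Lib.Helper6.TCD.HePU.CS42
import Cfsg.Agent.Lib.Helper6.TCD.HePU.CS43
import Cfsg.Agent.Lib.Helper6.TCD.HePU.CS44
import Cfsg.Agent.Lib.Helper6.TCD.HePU.CS45
import Cfsg.Agent.Lib.Helper6.TCD.HePU.CS46
import Cfsg.Agent.Lib.Helper6.TCD.HePU.CS47
import Cfsg.Agent.Lib.Helper6.TCD.HePU.CS48
import Cfsg.Agent.Lib.Helper6.TCD.HePU.CS49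
import Cfsg.Agent.Lib.Helper6.TCD.HePU.CS50
import Cfsg.Agent.Lib.Helper6.TCD.HePU.CS51
import Cfsg.Agent.Lib.Helper6.TCD.HePU.CS52
import Cfsg.Agent.Lib.Helper6.TCD.HePU.CS53
import Cfsg.Agent.Lib.Helper6.TCD.HePU.CS54
import Cfsg.Agent.Lib.Helper6.TCD.HePU.CS55
import Cfsg.Agent.Lib.Helper6.TCD.HePU.CS56
import Cfsg.Agent.Lib.Helper6.TCD.HePU.CS57
import Cfsg.Agent.Lib.Helper6.TCD.HePU.CS58
import Cfsg.Agent.Lib.Helper6.TCD.HePU.CS59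
import Cfsg.Agent.Lib.Helper6.TCD.HePU.CS60
import Cfsg.Agent.Lib.Helper6.TCD.HePU.CN0
import Cfsg.Agent.Lib.Helper6.TCD.HePU.CN1
import Cfsg.Agent.Lib.Helper6.TCD.HePU.CN2
import Cfsg.Agent.Lib.Helper6.TCD.HePU.CN3
import Cfsg.Agent.Lib.Helper6.TCD.HePU.CN4
import Cfsg.Agent.Lib.Helper6.TCD.HePU.CN5
import Cfsg.Agent.Lib.Helper6.TCD.HePU.CN6
import Cfsg.Agent.Lib.Helper6.TCD.HePU.CN7
import Cfsg.Agent.Lib.Helper6.TCD.HePU.CN8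
import Cfsg.Agent.Lib.Helper6.TCD.HePU.CN9
import Cfsg.Agent.Lib.Helper6.TCD.HePU.CN10
import Cfsg.Agent.Lib.Helper6.TCD.HePU.CC
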