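import Cfsg.Agent.Lib.Helper6.WP7
import Cfsg.Agent.Lib.Helper6.TCD.HePU.All

set_option autoImplicit false
set_option maxRecDepth 100000

namespace Cfsg.Agent.Lib.Helper6.TCD.HePU
open Cfsg.Agent.Lib.Helper6.TC

/-- the relators -/
def base : List (List ℕ) := [
  [0, 0],
  [1, 1],
  [2, 2],
  [3, 3],
  [4, 4],
  [5, 5],
  [6, 6],
  [7, 7],
  [0, 2, 0, 2],
  [0, 3, 0, 3],
  [0, 4, 0, 4],
  [1, 4, 1, 4],
  [3, 4, 3, 4],
  [1, 5, 1, 5],
  [2, 4, 5, 4, 5],
  [1, 3, 1, 3, 1, 3],
  [2, 3, 6, 7, 6, 7],
  [1, 6, 1, 6, 1, 6],
  [1, 7, 1, 7, 1, 7],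
  [0, 4, 5, 6, 5, 7, 4, 7, 6],
  [0, 1, 0, 1, 4, 6, 1, 0, 1, 6],
  [0, 1, 0, 1, 5, 7, 1, 0, 1, 7]]

/-- the generators of the subgroup -/
def subw : List (List ℕ) := []

theorem chkW : allB (chkWord WD WI base subw INV ncol nrw) nw = true := by
  decide +kernel

theorem hS : ∀ s < n * ncol, chkSlot SH SC NH NC WD n ncol nrw nw tmax INV s = true := by
  intro s hs
  have hs' : s < 483088 := hs
  by_cases h0 : s < 8000
  · exact allR_spec chkS0 s (by omega) (by omega)
  by_cases h1 : s < 16000
  · exact allR_spec chkS1 s (by omega) (by omega)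
  by_cases h2 : s < 24000
  · exact allR_spec chkS2 s (by omega) (by omega)
  by_cases h3 : s < 32000
  · exact allR_spec chkS3 s (by omega) (by omega)
  by_cases h4 : s < 40000
  · exact allR_spec chkS4 s (by omega) (by omega)
  by_cases h5 : s < 48000
  · exact allR_spec chkS5 s (by omega) (by omega)
  by_cases h6 : s < 56000
  · exact allR_spec chkS6 s (by omega) (by omega)
  by_cases h7 : s < 64000
  · exact allR_spec chkS7 s (by omega) (by omega)
  by_cases h8 : s < 72000
  · exact allR_spec chkS8 s (by omega) (by omega)
  by_cases h9 : s < 80000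
  · exact allR_spec chkS9 s (by omega) (by omega)
  by_cases h10 : s < 88000
  · exact allR_spec chkS10 s (by omega) (by omega)
  by_cases h11 : s < 96000
  · exact allR_spec chkS11 s (by omega) (by omega)
  by_cases h12 : s < 104000
  · exact allR_spec chkS12 s (by omega) (by omega)
  by_cases h13 : s < 112000
  · exact allR_spec chkS13 s (by omega) (by omega)
  by_cases h14 : s < 120000
  · exact allR_spec chkS14 s (by omega) (by omega)
  by_cases h15 : s < 128000
  · exact allR_spec chkS15 s (by omega) (by omega)
  by_cases h16 : s < 136000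
  · exact allR_spec chkS16 s (by omega) (by omega)
  by_cases h17 : s < 144000
  · exact allR_spec chkS17 s (by omega) (by omega)
  by_cases h18 : s < 152000
  · exact allR_spec chkS18 s (by omega) (by omega)
  by_cases h19 : s < 160000
  · exact allR_spec chkS19 s (by omega) (by omega)
  by_cases h20 : s < 168000
  · exact allR_spec chkS20 s (by omega) (by omega)
  by_cases h21 : s < 176000
  · exact allR_spec chkS21 s (by omega) (by omega)
  by_cases h22 : s < 184000
  · exact allR_spec chkS22 s (by omega) (by omega)
  by_cases h23 : s < 192000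
  · exact allR_spec chkS23 s (by omega) (by omega)
  by_cases h24 : s < 200000
  · exact allR_spec chkS24 s (by omega) (by omega)
  by_cases h25 : s < 208000
  · exact allR_spec chkS25 s (by omega) (by omega)
  by_cases h26 : s < 216000
  · exact allR_spec chkS26 s (by omega) (by omega)
  by_cases h27 : s < 224000
  · exact allR_spec chkS27 s (by omega) (by omega)
  by_cases h28 : s < 232000
  · exact allR_spec chkS28 s (by omega) (by omega)
  by_cases h29 : s < 240000
  · exact allR_spec chkS29 s (by omega) (by omega)
  by_cases h30 : s < 248000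
  · exact allR_spec chkS30 s (by omega) (by omega)
  by_cases h31 : s < 256000
  · exact allR_spec chkS31 s (by omega) (by omega)
  by_cases h32 : s < 264000
  · exact allR_spec chkS32 s (by omega) (by omega)
  by_cases h33 : s < 272000
  · exact allR_spec chkS33 s (by omega) (by omega)
  by_cases h34 : s < 280000
  · exact allR_spec chkS34 s (by omega) (by omega)
  by_cases h35 : s < 288000
  · exact allR_spec chkS35 s (by omega) (by omega)
  by_cases h36 : s < 296000
  · exact allR_spec chkS36 s (by omega) (by omega)
  by_cases h37 : s < 304000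
  · exact allR_spec chkS37 s (by omega) (by omega)
  by_cases h38 : s < 312000
  · exact allR_spec chkS38 s (by omega) (by omega)
  by_cases h39 : s < 320000
  · exact allR_spec chkS39 s (by omega) (by omega)
  by_cases h40 : s < 328000
  · exact allR_spec chkS40 s (by omega) (by omega)
  by_cases h41 : s < 336000
  · exact allR_spec chkS41 s (by omega) (by omega)
  by_cases h42 : s < 344000
  · exact allR_spec chkS42 s (by omega) (by omega)
  by_cases h43 : s < 352000
  · exact allR_spec chkS43 s (by omega) (by omega)
  by_cases h44 : s < 360000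
  · exact allR_spec chkS44 s (by omega) (by omega)
  by_cases h45 : s < 368000
  · exact allR_spec chkS45 s (by omega) (by omega)
  by_cases h46 : s < 376000
  · exact allR_spec chkS46 s (by omega) (by omega)
  by_cases h47 : s < 384000
  · exact allR_spec chkS47 s (by omega) (by omega)
  by_cases h48 : s < 392000
  · exact allR_spec chkS48 s (by omega) (by omega)
  by_cases h49 : s < 400000
  · exact allR_spec chkS49 s (by omega) (by omega)
  by_cases h50 : s < 408000
  · exact allR_spec chkS50 s (by omega) (by omega)
  by_cases h51 : s < 416000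
  · exact allR_spec chkS51 s (by omega) (by omega)
  by_cases h52 : s < 424000
  · exact allR_spec chkS52 s (by omega) (by omega)
  by_cases h53 : s < 432000
  · exact allR_spec chkS53 s (by omega) (by omega)
  by_cases h54 : s < 440000
  · exact allR_spec chkS54 s (by omega) (by omega)
  by_cases h55 : s < 448000
  · exact allR_spec chkS55 s (by omega) (by omega)
  by_cases h56 : s < 456000
  · exact allR_spec chkS56 s (by omega) (by omega)
  by_cases h57 : s < 464000
  · exact allR_spec chkS57 s (by omega) (by omega)
  by_cases h58 : s < 472000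
  · exact allR_spec chkS58 s (by omega) (by omega)
  by_cases h59 : s < 480000
  · exact allR_spec chkS59 s (by omega) (by omega)
  by_cases h60 : s < 483088
  · exact allR_spec chkS60 s (by omega) (by omega)
  omega

theorem hN : ∀ ν < n, chkName SH NH NC WD n ncol nrw nw tmax ν = true := by
  intro ν hν
  have hν' : ν < 60386 := hν
  by_cases h0 : ν < 6000
  · exact allR_spec chkN0 ν (by omega) (by omega)
  by_cases h1 : ν < 12000
  · exact allR_spec chkN1 ν (by omega) (by omega)
  by_cases h2 : ν < 18000
  · exact allR_spec chkN2 ν (by omega) (by omega)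
  by_cases h3 : ν < 24000
  · exact allR_spec chkN3 ν (by omega) (by omega)
  by_cases h4 : ν < 30000
  · exact allR_spec chkN4 ν (by omega) (by omega)
  by_cases h5 : ν < 36000
  · exact allR_spec chkN5 ν (by omega) (by omega)
  by_cases h6 : ν < 42000
  · exact allR_spec chkN6 ν (by omega) (by omega)
  by_cases h7 : ν < 48000
  · exact allR_spec chkN7 ν (by omega) (by omega)
  by_cases h8 : ν < 54000
  · exact allR_spec chkN8 ν (by omega) (by omega)
  by_cases h9 : ν < 60000
  · exact allR_spec chkN9 ν (by omega) (by omega)
  by_cases h10 : ν < 60386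
  · exact allR_spec chkN10 ν (by omega) (by omega)
  omega

theorem hL : ∀ ν < n, chkLive SH NH n ncol tmax ν = true := by
  intro ν hν
  have hν' : ν < 60386 := hν
  by_cases h0 : ν < 6000
  · exact allR_spec chkL0 ν (by omega) (by omega)
  by_cases h1 : ν < 12000
  · exact allR_spec chkL1 ν (by omega) (by omega)
  by_cases h2 : ν < 18000
  · exact allR_spec chkL2 ν (by omega) (by omega)
  by_cases h3 : ν < 24000
  · exact allR_spec chkL3 ν (by omega) (by omega)
  by_cases h4 : ν < 30000
  · exact allR_spec chkL4 ν (by omega) (by omega)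
  by_cases h5 : ν < 36000
  · exact allR_spec chkL5 ν (by omega) (by omega)
  by_cases h6 : ν < 42000
  · exact allR_spec chkL6 ν (by omega) (by omega)
  by_cases h7 : ν < 48000
  · exact allR_spec chkL7 ν (by omega) (by omega)
  by_cases h8 : ν < 54000
  · exact allR_spec chkL8 ν (by omega) (by omega)
  by_cases h9 : ν < 60000
  · exact allR_spec chkL9 ν (by omega) (by omega)
  by_cases h10 : ν < 60386
  · exact allR_spec chkL10 ν (by omega) (by omega)
  omega

theorem hinv1 : ∀ c < 8, invc INV c < 8 := by
  intro c hc
  interval_cases c <;> decide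

theorem hpair : ∀ c < 8, [c, invc INV c] ∈ base ∨ [invc INV c, c] ∈ base := by
  intro c hc
  interval_cases c <;> decide +kernel

theorem hbl : ∀ b ∈ base, ∀ c ∈ b, c < 8 := by decide +kernel

/-- the index of the subgroup is at most `21504` -/
theorem idx : (subH (wrels 8 base) (wset 8 subw)).index ≤ 21504 ∧
    (subH (wrels 8 base) (wset 8 subw)).index ≠ 0 := by
  have h := wp_index_le' (k := 8) (base := base) (subw := subw) (SH := SH) (SC := SC) (NH := NH)
    (NC := NC) (WD := WD) (WI := WI) (n := n) (nrw := nrw) (nw := nw) (tmax := tmax) (INV := INV)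
    (by decide) (by decide) hinv1 hpair hbl (fun j hj => allB_spec chkW j hj) hS hN hL
  have e : cntLive NH n tmax n = 21504 := chkC
  rw [e] at h
  exact h

end Cfsg.Agent.Lib.Helper6.TCD.HePU
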